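import Cfsg.Agent.Lib.Helper17.E6I.Defs
import Cfsg.Agent.Lib.Helper65.E6I.A1
import Cfsg.Agent.Lib.Helper65.E6I.A2
import Cfsg.Agent.Lib.Helper15.E6I.A3

set_option autoImplicit false

/-! Farm E6I (helper17, S2175), piece A6: killing the coordinates at the roots `r0 + d`. -/

namespace Cfsg.Agent.Lib.Helper88.E6I

open Cfsg.Agent.Lib.Helper17.E6I
open Cfsg.Agent.Lib.Helper65.E6I Cfsg.Agent.Lib.Helper15.E6I

variable {G : Type*} [Group G] {F : Type*} [Field F] (R : RS G F)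

theorem A6_x_zero (r : ℕ) : R.x r 0 = 1 := by
  have := R.x_add r 0 0
  rw [add_zero] at this
  simpa using this

theorem A6_x_sq [CharP F 2] (r : ℕ) (t : F) : R.x r t * R.x r t = 1 := by
  rw [R.x_add, CharTwo.add_self_eq_zero, A6_x_zero]

theorem A6_x_mem {act : ℕ → Prop} {r k : ℕ} (hr : act r) (hk : k ≤ r) (t : F) :
    R.x r t ∈ V R act k :=
  Subgroup.subset_closure ⟨r, t, hr, hk, rfl⟩

theorem A6_V_mono {act act' : ℕ → Prop} {k k' : ℕ}
    (h : ∀ r, act r → k ≤ r → act' r ∧ k' ≤ r) : V R act k ≤ V R act' k' := by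
  apply Subgroup.closure_mono
  rintro g ⟨r, t, hr, hk, rfl⟩
  exact ⟨r, t, (h r hr hk).1, (h r hr hk).2, rfl⟩

theorem A6_V_bot {act : ℕ → Prop} (h : AddClosed R act) {k : ℕ} (hk : R.n ≤ k) :
    V R act k = ⊥ := by
  unfold V
  rw [Subgroup.closure_eq_bot_iff]
  rintro g ⟨r, t, hr, hkr, rfl⟩
  have := (h.bd r hr).2
  omega

theorem A6_St [CharP F 2] {act : ℕ → Prop} (h : Closed R act) {r0 : ℕ} (hr0 : act r0) {c : F}
    (hc : c ≠ 0) {y : G} (hy : y ∈ V R act (r0 + 1)) (j : ℕ) :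
    ∃ g ∈ V R act R.lo, ∃ w ∈ V R (gd R act r0) (r0 + 1), ∃ y' ∈ V R act (r0 + 1 + j),
      g * (R.x r0 c * y) * g⁻¹ = R.x r0 c * w * y' := by
  induction j with
  | zero => exact ⟨1, one_mem _, 1, one_mem _, y, hy, by simp⟩
  | succ j ih =>
    obtain ⟨g, hg, w, hw, y', hy', heq⟩ := ih
    obtain ⟨b, hb⟩ : ∃ b, b = r0 + 1 + j := ⟨_, rfl⟩
    rw [← hb] at hy'
    rw [← add_assoc, ← hb]
    obtain ⟨e, y'', hy'', he0, rfl⟩ := V_decomp R h.toAddClosed hy'
    by_cases hab : act b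
    · by_cases hgd : gd R act r0 b
      · refine ⟨g, hg, w * R.x b e, mul_mem hw (A6_x_mem R hgd (by omega) e), y'', hy'', ?_⟩
        rw [heq]
        simp only [mul_assoc]
      · have hex : ∃ d, act d ∧ R.add r0 d = some b := by
          by_contra hcon
          exact hgd ⟨hab, hcon⟩
        obtain ⟨d, hd, hadd⟩ := hex
        obtain ⟨a, ha⟩ : ∃ a, a = R.x d (e / c) := ⟨_, rfl⟩
        obtain ⟨X, hX⟩ : ∃ X, X = R.x b e := ⟨_, rfl⟩
        obtain ⟨x0, hx0⟩ : ∃ x0, x0 = R.x r0 c := ⟨_, rfl⟩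
        have hadd' : R.add d r0 = some b := by rw [R.add_symm]; exact hadd
        have hbd := h.bd d hd
        have hbr := h.bd r0 hr0
        have c1 : a * x0 * a⁻¹ = x0 * X := by
          have := R.conj_some d r0 b hbd.1 hbd.2 hbr.1 hbr.2 hadd' (e / c) c
          rw [div_mul_cancel₀ _ hc] at this
          rw [ha, hx0, hX]
          exact this
        have hwact : w ∈ V R act (r0 + 1) := A6_V_mono R (fun r hr hk => ⟨hr.1, hk⟩) hw
        have z1 : a * w * a⁻¹ * w⁻¹ ∈ V R act (b + 1) := by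
          rw [ha]
          exact V_comm R h.toAddClosed hd (e / c) (k := r0 + 1) (m := b + 1)
            (fun r j _ hk hj => R.add_mono d r0 r b j hadd' hj (by omega)) hwact
        have z2 : a * X * a⁻¹ * X⁻¹ ∈ V R act (b + 1) := by
          rw [ha, hX]
          exact V_comm R h.toAddClosed hd (e / c) (k := b) (m := b + 1)
            (fun r j _ hk hj => by have := (R.add_lt d r j hj).2.1; omega)
            (A6_x_mem R hab le_rfl e)
        have z3 : X * w * X⁻¹ * w⁻¹ ∈ V R act (b + 1) := by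
          rw [hX]
          exact V_comm R h.toAddClosed hab e (k := r0 + 1) (m := b + 1)
            (fun r j _ hk hj => by have := (R.add_lt b r j hj).1; omega) hwact
        have y3 : a * y'' * a⁻¹ ∈ V R act (b + 1) := by
          rw [ha]
          exact V_normal R h.toAddClosed hd (e / c) hy''
        have hXX : X * X = 1 := by rw [hX]; exact A6_x_sq R b e
        have hXm : X ∈ V R act b := by rw [hX]; exact A6_x_mem R hab le_rfl e
        have n1 : X * (a * w * a⁻¹ * w⁻¹) * X⁻¹ ∈ V R act (b + 1) :=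
          V_normal' R h.toAddClosed hXm z1
        have n2 : w⁻¹ * (X * (a * w * a⁻¹ * w⁻¹) * X⁻¹ * (X * w * X⁻¹ * w⁻¹)) * w
            ∈ V R act (b + 1) := by
          have := V_normal' R h.toAddClosed (inv_mem hwact) (mul_mem n1 z3)
          rwa [inv_inv] at this
        have n3 : X * (a * X * a⁻¹ * X⁻¹) * X⁻¹ ∈ V R act (b + 1) :=
          V_normal' R h.toAddClosed hXm z2
        refine ⟨a * g, mul_mem (by rw [ha]; exact A6_x_mem R hd hbd.1 _) hg, w, hw,
          (w⁻¹ * (X * (a * w * a⁻¹ * w⁻¹) * X⁻¹ * (X * w * X⁻¹ * w⁻¹)) * w) *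
            (X * (a * X * a⁻¹ * X⁻¹) * X⁻¹) * (a * y'' * a⁻¹), mul_mem (mul_mem n2 n3) y3, ?_⟩
        rw [← hx0, ← hX] at heq
        rw [← hx0]
        have e0 : a * g * (x0 * y) * (a * g)⁻¹ = a * (g * (x0 * y) * g⁻¹) * a⁻¹ := by group
        have e1 : a * (x0 * w * (X * y'')) * a⁻¹
            = (a * x0 * a⁻¹) * (a * w * X * a⁻¹) * (a * y'' * a⁻¹) := by group
        have e2 : x0 * w * ((w⁻¹ * (X * (a * w * a⁻¹ * w⁻¹) * X⁻¹ * (X * w * X⁻¹ * w⁻¹)) * w) *
            (X * (a * X * a⁻¹ * X⁻¹) * X⁻¹) * (a * y'' * a⁻¹))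
            = x0 * X * (a * w * X * a⁻¹) * (X * X)⁻¹ * (a * y'' * a⁻¹) := by group
        rw [e0, heq, e1, c1, e2, hXX, inv_one, mul_one]
    · have he := he0 hab
      subst he
      refine ⟨g, hg, w, hw, y'', hy'', ?_⟩
      rw [heq, A6_x_zero, one_mul]

theorem stage [CharP F 2] {act : ℕ → Prop} (h : Closed R act) {r0 : ℕ} (hr0 : act r0) {c : F}
    (hc : c ≠ 0) {y : G} (hy : y ∈ V R act (r0 + 1)) :
    ∃ g ∈ V R act R.lo, ∃ w ∈ V R (gd R act r0) (r0 + 1),
      g * (R.x r0 c * y) * g⁻¹ = R.x r0 c * w := by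
  obtain ⟨g, hg, w, hw, y', hy', heq⟩ := A6_St R h hr0 hc hy R.n
  rw [A6_V_bot R h.toAddClosed (by omega), Subgroup.mem_bot] at hy'
  subst hy'
  exact ⟨g, hg, w, hw, by rw [heq, mul_one]⟩

end Cfsg.Agent.Lib.Helper88.E6I
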