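import Cfsg.Agent.Lib.Helper17.E6I.Defs
import Cfsg.Agent.Lib.Helper15.E6I.A3
import Cfsg.Agent.Lib.Helper15.E6I.A4
import Cfsg.Agent.Lib.Helper15.E6I.A5

set_option autoImplicit false

/-! Farm E6I (helper17, S2175), piece A7: use of `u² = 1`. -/

namespace Cfsg.Agent.Lib.Helper88.E6I

open Cfsg.Agent.Lib.Helper17.E6I
open Cfsg.Agent.Lib.Helper65.E6I Cfsg.Agent.Lib.Helper15.E6I

variable {G : Type*} [Group G] {F : Type*} [Field F] (R : RS G F)

theorem A7_x_zero (r : ℕ) : R.x r 0 = 1 := by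
  have := R.x_add r 0 0
  rw [add_zero] at this
  simpa using this

theorem A7_x_sq [CharP F 2] (r : ℕ) (t : F) : R.x r t * R.x r t = 1 := by
  rw [R.x_add, CharTwo.add_self_eq_zero, A7_x_zero]

theorem A7_x_mem {act : ℕ → Prop} {r k : ℕ} (hr : act r) (hk : k ≤ r) (t : F) :
    R.x r t ∈ V R act k :=
  Subgroup.subset_closure ⟨r, t, hr, hk, rfl⟩

theorem A7_V_mono {act act' : ℕ → Prop} {k k' : ℕ}
    (h : ∀ r, act r → k ≤ r → act' r ∧ k' ≤ r) : V R act k ≤ V R act' k' := by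
  apply Subgroup.closure_mono
  rintro g ⟨r, t, hr, hk, rfl⟩
  exact ⟨r, t, (h r hr hk).1, (h r hr hk).2, rfl⟩

theorem A7_lp_mem {act : ℕ → Prop} {k : ℕ} (L : List ℕ) (e : ℕ → F)
    (h : ∀ r ∈ L, e r = 0 ∨ (act r ∧ k ≤ r)) : lp R L e ∈ V R act k := by
  unfold Cfsg.Agent.Lib.Helper17.E6I.lp
  apply Subgroup.list_prod_mem
  intro g hg
  obtain ⟨r, hr, rfl⟩ := List.mem_map.1 hg
  rcases h r hr with h0 | h1
  · rw [h0, A7_x_zero]; exact one_mem _
  · exact A7_x_mem R h1.1 h1.2 _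

theorem A7_lp_append (L₁ L₂ : List ℕ) (e : ℕ → F) :
    lp R (L₁ ++ L₂) e = lp R L₁ e * lp R L₂ e := by
  unfold Cfsg.Agent.Lib.Helper17.E6I.lp
  rw [List.map_append, List.prod_append]

theorem A7_lp_cons (r : ℕ) (L : List ℕ) (e : ℕ → F) :
    lp R (r :: L) e = R.x r (e r) * lp R L e := by
  unfold Cfsg.Agent.Lib.Helper17.E6I.lp
  rw [List.map_cons, List.prod_cons]

theorem A7_lp_comm (x0 : G) (L : List ℕ) (e : ℕ → F)
    (h : ∀ r ∈ L, x0 * R.x r (e r) = R.x r (e r) * x0) : x0 * lp R L e = lp R L e * x0 := by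
  unfold Cfsg.Agent.Lib.Helper17.E6I.lp
  apply Commute.list_prod_right
  intro g hg
  obtain ⟨r, hr, rfl⟩ := List.mem_map.1 hg
  exact h r hr

theorem A7_range_split {s r n : ℕ} (h1 : s ≤ r) (h2 : r < n) :
    List.range' s (n - s) = List.range' s (r - s) ++ r :: List.range' (r + 1) (n - (r + 1)) := by
  have e1 : n - s = (r - s) + ((n - (r + 1)) + 1) := by omega
  rw [e1, ← List.range'_append_1, List.range'_succ]
  have e2 : s + (r - s) = r := by omega
  rw [e2]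

/-- the good roots above `r0` are closed under addition -/
theorem A7_gd_closed {act : ℕ → Prop} (h : Closed R act) {r0 : ℕ} (hr0 : act r0) :
    AddClosed R (fun r => gd R act r0 r ∧ r0 < r) where
  bd := fun r hr => h.bd r hr.1.1
  add := by
    intro a b k ha hb hk
    have hlt := R.add_lt a b k hk
    refine ⟨⟨h.add a b k ha.1.1 hb.1.1 hk, ?_⟩, by omega⟩
    rintro ⟨d, hd, hdk⟩
    rcases R.good_add r0 a b k d ha.2 hb.2 hk hdk with ⟨d', hd'⟩ | ⟨d', hd'⟩
    · exact ha.1.2 ⟨d', h.sub r0 d' a hr0 ha.1.1 hd', hd'⟩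
    · exact hb.1.2 ⟨d', h.sub r0 d' b hr0 hb.1.1 hd', hd'⟩

theorem step2 [CharP F 2] {act : ℕ → Prop} (h : Closed R act) {r0 : ℕ} (hr0 : act r0) {c : F}
    (hc : c ≠ 0) {w : G} (hw : w ∈ V R (gd R act r0) (r0 + 1))
    (hsq : (R.x r0 c * w) * (R.x r0 c * w) = 1) : w ∈ V R (oc R act r0) (r0 + 1) := by
  classical
  have hbr := h.bd r0 hr0
  have hgc := A7_gd_closed R h hr0
  have hw' : w ∈ V R (fun r => gd R act r0 r ∧ r0 < r) (r0 + 1) :=
    A7_V_mono R (fun r hr hk => ⟨⟨hr, by omega⟩, hk⟩) hw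
  obtain ⟨e, he0, hwe⟩ := V_form R hgc (k := r0 + 1) (by omega) hw'
  have he1 : ∀ r, e r ≠ 0 → gd R act r0 r ∧ r0 < r := by
    intro r hr
    by_contra hcon
    exact hr (he0 r (fun hh => hcon hh.1))
  by_cases hA : ∀ r, R.add r0 r ≠ none → e r = 0
  · rw [hwe]
    apply A7_lp_mem
    intro r hr
    by_cases her : e r = 0
    · exact Or.inl her
    · right
      have hg := he1 r her
      have hb := h.bd r hg.1.1
      have hnone : R.add r0 r = none := by
        by_contra hcon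
        exact her (hA r hcon)
      refine ⟨⟨hg.1.1, ?_⟩, by omega⟩
      rcases R.tri r0 r hbr.1 hg.2 hb.2 with ho | ⟨d, hd⟩ | ⟨p, hp⟩
      · exact ho
      · exact absurd ⟨d, h.sub r0 d r hr0 hg.1.1 hd, hd⟩ hg.1.2
      · rw [hnone] at hp; exact absurd hp (by simp)
  · exfalso
    push Not at hA
    have hex : ∃ r, R.add r0 r ≠ none ∧ e r ≠ 0 := hA
    obtain ⟨r1, hr1⟩ : ∃ r1, r1 = Nat.find hex := ⟨_, rfl⟩
    have hs1 : R.add r0 r1 ≠ none ∧ e r1 ≠ 0 := by rw [hr1]; exact Nat.find_spec hex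
    have hmin : ∀ r, r < r1 → R.add r0 r = none ∨ e r = 0 := by
      intro r hr
      rw [hr1] at hr
      have := Nat.find_min hex hr
      by_contra hcon
      push Not at hcon
      exact this hcon
    obtain ⟨p, hp⟩ := Option.ne_none_iff_exists'.1 hs1.1
    have hg1 := he1 r1 hs1.2
    have hb1 := h.bd r1 hg1.1.1
    have hplt := R.add_lt r0 r1 p hp
    obtain ⟨x0, hx0⟩ : ∃ x0, x0 = R.x r0 c := ⟨_, rfl⟩
    obtain ⟨w1, hw1⟩ : ∃ w1, w1 = lp R (List.range' (r0 + 1) (r1 - (r0 + 1))) e := ⟨_, rfl⟩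
    obtain ⟨w2, hw2⟩ : ∃ w2, w2 = lp R (List.range' (r1 + 1) (R.n - (r1 + 1))) e := ⟨_, rfl⟩
    obtain ⟨X1, hX1⟩ : ∃ X1, X1 = R.x r1 (e r1) := ⟨_, rfl⟩
    obtain ⟨Xp, hXp⟩ : ∃ Xp, Xp = R.x p (c * e r1) := ⟨_, rfl⟩
    have hsplit : w = w1 * (X1 * w2) := by
      rw [hwe, A7_range_split (s := r0 + 1) (r := r1) (n := R.n) (by omega) hb1.2, A7_lp_append,
        A7_lp_cons, hw1, hw2, hX1]
    -- `w1` commutes with `x0`
    have hc1 : x0 * w1 = w1 * x0 := by
      rw [hw1]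
      apply A7_lp_comm
      intro r hr
      rw [List.mem_range'_1] at hr
      rcases hmin r (by omega) with hn | hz
      · rw [hx0]
        exact R.comm_none r0 r hbr.1 hbr.2 (by omega) (by omega) hn c (e r)
      · rw [hz, A7_x_zero, mul_one, one_mul]
    let actK : ℕ → Prop := fun r => act r ∧ r0 < r ∧ (gd R act r0 r ∨ p < r)
    have hK : AddClosed R actK :=
      { bd := fun r hr => h.bd r hr.1
        add := by
          intro a b k ha hb hk
          have hlt := R.add_lt a b k hk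
          refine ⟨h.add a b k ha.1 hb.1 hk, by have := ha.2.1; omega, ?_⟩
          rcases ha.2.2 with hga | hpa
          · rcases hb.2.2 with hgb | hpb
            · exact Or.inl (hgc.add a b k ⟨hga, ha.2.1⟩ ⟨hgb, hb.2.1⟩ hk).1
            · right; omega
          · right; omega }
    have hnK : ¬ actK p := by
      rintro ⟨_, _, hg | hlt⟩
      · exact hg.2 ⟨r1, hg1.1.1, hp⟩
      · exact lt_irrefl _ hlt
    have hmemK : ∀ L : List ℕ, lp R L e ∈ V R actK R.lo := by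
      intro L
      apply A7_lp_mem
      intro r _
      by_cases her : e r = 0
      · exact Or.inl her
      · have hg := he1 r her
        exact Or.inr ⟨⟨hg.1.1, hg.2, Or.inl hg.1⟩, (h.bd r hg.1.1).1⟩
    have hw1K : w1 ∈ V R actK R.lo := by rw [hw1]; exact hmemK _
    have hw2K : w2 ∈ V R actK R.lo := by rw [hw2]; exact hmemK _
    have hwK : w ∈ V R actK R.lo := by rw [hwe]; exact hmemK _
    have hX1K : X1 ∈ V R actK R.lo := by
      rw [hX1]
      exact A7_x_mem R ⟨hg1.1.1, hg1.2, Or.inl hg1.1⟩ hb1.1 _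
    have hw2a : w2 ∈ V R act (r1 + 1) := by
      rw [hw2]
      apply A7_lp_mem
      intro r hr
      rw [List.mem_range'_1] at hr
      by_cases her : e r = 0
      · exact Or.inl her
      · exact Or.inr ⟨(he1 r her).1.1, hr.1⟩
    have hz : x0 * w2 * x0⁻¹ * w2⁻¹ ∈ V R act (p + 1) := by
      rw [hx0]
      exact V_comm R h.toAddClosed hr0 c (k := r1 + 1) (m := p + 1)
        (fun r j _ hk hj => R.add_mono r0 r1 r p j hp hj (by omega)) hw2a
    have hzK : x0 * w2 * x0⁻¹ * w2⁻¹ ∈ V R actK R.lo :=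
      A7_V_mono R (fun r hr hk => ⟨⟨hr, by omega, Or.inr (by omega)⟩, (h.bd r hr).1⟩) hz
    have hconj : x0 * X1 * x0⁻¹ = X1 * Xp := by
      rw [hx0, hX1, hXp]
      exact R.conj_some r0 r1 p hbr.1 hbr.2 hb1.1 hb1.2 hp c (e r1)
    have hx0sq : x0 * x0 = 1 := by rw [hx0]; exact A7_x_sq R r0 c
    have hx0inv : x0⁻¹ = x0 := inv_eq_of_mul_eq_one_left hx0sq
    -- the relation
    have hrel : (x0 * w * x0⁻¹) * w = 1 := by
      rw [hx0inv, ← hsq, ← hx0]
      simp only [mul_assoc]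
    have hexp : x0 * w * x0⁻¹
        = w1 * (X1 * Xp) * ((x0 * w2 * x0⁻¹ * w2⁻¹) * w2) := by
      have e1 : x0 * w * x0⁻¹ = (x0 * w1) * x0⁻¹ * (x0 * X1 * x0⁻¹) * (x0 * w2 * x0⁻¹) := by
        rw [hsplit]; group
      rw [e1, hc1, hconj]
      group
    have hXpeq : Xp = (w1 * X1)⁻¹ * (((x0 * w2 * x0⁻¹ * w2⁻¹) * w2) * w)⁻¹ := by
      rw [hexp] at hrel
      have e2 : w1 * (X1 * Xp) * ((x0 * w2 * x0⁻¹ * w2⁻¹) * w2) * w
          = (w1 * X1) * Xp * (((x0 * w2 * x0⁻¹ * w2⁻¹) * w2) * w) := by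
        simp only [mul_assoc]
      rw [e2] at hrel
      have e3 : (w1 * X1) * Xp = (((x0 * w2 * x0⁻¹ * w2⁻¹) * w2) * w)⁻¹ :=
        eq_inv_of_mul_eq_one_left hrel
      rw [← e3]
      group
    have hXpK : Xp ∈ V R actK R.lo := by
      rw [hXpeq]
      exact mul_mem (inv_mem (mul_mem hw1K hX1K)) (inv_mem (mul_mem (mul_mem hzK hw2K) hwK))
    rw [hXp] at hXpK
    have := not_mem_V R hK (p := p) (by omega) hplt.2.2 hnK hXpK
    rcases mul_eq_zero.1 this with h1 | h1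
    · exact hc h1
    · exact hs1.2 h1

end Cfsg.Agent.Lib.Helper88.E6I
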